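import Mathlib.RingTheory.ZariskisMainTheorem
import Mathlib.RingTheory.Ideal.GoingDown
import Mathlib.RingTheory.Flat.Localization
import Mathlib.RingTheory.FinitePresentation
import Mathlib.FieldTheory.IsAlgClosed.Basic

/-!
Quasi-finite flat algebras over rings with absolutely integrally closed local rings have local
sections.
-/

universe u
set_option autoImplicit false

open scoped TensorProduct
open Polynomial

namespace Groth.Agent.H34.AbsInt

/-- Over a local domain integrally closed in an algebraically closed field, a quasi-finite flat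
algebra of finite type with a prime over the maximal ideal has a section. -/
theorem exists_section_of_local {D : Type u} [CommRing D] [IsLocalRing D] [IsDomain D]
    {L : Type u} [Field L] [IsAlgClosed L] [Algebra D L] [FaithfulSMul D L] [IsIntegrallyClosedIn D L]
    {B : Type u} [CommRing B] [Algebra D B] [Algebra.FiniteType D B] [Module.Flat D B]
    [Algebra.QuasiFinite D B] (q : Ideal B) [q.IsPrime]
    (hq : q.comap (algebraMap D B) = IsLocalRing.maximalIdeal D) : Nonempty (B →ₐ[D] D) := by
  have : q.LiesOver (IsLocalRing.maximalIdeal D) := ⟨hq.symm⟩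
  obtain ⟨P0, hP0q, _, hP0⟩ :=
    Ideal.exists_ideal_le_liesOver_of_le (p := (⊥ : Ideal D)) (q := IsLocalRing.maximalIdeal D) q bot_le
  have hinjq : Function.Injective (algebraMap D (B ⧸ P0)) := by
    rw [injective_iff_map_eq_zero]
    intro d hd
    have h1 : algebraMap D B d ∈ P0 := Ideal.Quotient.eq_zero_iff_mem.1 hd
    have h2 : d ∈ P0.under D := h1
    rwa [← hP0.over, Ideal.mem_bot] at h2
  have : FaithfulSMul D (B ⧸ P0) := (faithfulSMul_iff_algebraMap_injective _ _).2 hinjq
  have : Module.IsTorsionFree D (B ⧸ P0) := inferInstance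
  have : Algebra.IsAlgebraic D (B ⧸ P0) := by
    let K0 := FractionRing (B ⧸ P0)
    let k0 := FractionRing D
    letI := FractionRing.liftAlgebra D K0
    have := FractionRing.isScalarTower_liftAlgebra D K0
    have : Algebra.QuasiFinite D K0 := .trans D (B ⧸ P0) K0
    have : Algebra.QuasiFinite k0 K0 := .of_restrictScalars D k0 K0
    have : Module.Finite k0 K0 := .of_quasiFinite
    have : Algebra.IsAlgebraic k0 K0 := Algebra.IsAlgebraic.of_finite k0 K0
    exact ⟨fun x => (isAlgebraic_algebraMap_iff (IsFractionRing.injective (B ⧸ P0) K0)).1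
      ((IsFractionRing.isAlgebraic_iff D k0 K0).2
        (Algebra.IsAlgebraic.isAlgebraic (algebraMap _ K0 x)))⟩
  let θ : (B ⧸ P0) →ₐ[D] L := IsAlgClosed.lift
  have hθ : Function.Injective θ := by
    rw [injective_iff_map_eq_zero]
    intro x hx
    by_contra h
    obtain ⟨d, hd, y, hy⟩ := (Algebra.IsAlgebraic.isAlgebraic (R := D) x).exists_nonzero_dvd
      (mem_nonZeroDivisors_of_ne_zero h)
    exact hd (FaithfulSMul.algebraMap_injective D L (by
      rw [← θ.commutes, hy, map_mul, hx, zero_mul, map_zero]))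
  have key : ∀ x : B ⧸ P0, IsIntegral D x → x ∈ Set.range (algebraMap D (B ⧸ P0)) := fun x hx => by
    obtain ⟨d, hd⟩ := IsIntegrallyClosedIn.isIntegral_iff.1 (hx.map θ)
    exact ⟨d, hθ ((θ.commutes d).trans hd)⟩
  have : (q.map (Ideal.Quotient.mk P0)).IsPrime :=
    Ideal.map_isPrime_of_surjective Ideal.Quotient.mk_surjective (by rw [Ideal.mk_ker]; exact hP0q)
  obtain ⟨r, hr, hint⟩ := Algebra.zariskisMainProperty_iff'.1
    (Algebra.ZariskisMainProperty.of_finiteType (R := D) (q.map (Ideal.Quotient.mk P0)))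
  have hrD : IsIntegral D r := by
    obtain ⟨m, hm⟩ := hint r
    rw [← pow_succ] at hm
    exact (IsIntegral.pow_iff (by simp)).1 hm
  obtain ⟨d, rfl⟩ := key r hrD
  have hd : IsUnit d := by
    by_contra hd
    refine hr ?_
    exact Ideal.mem_map_of_mem (Ideal.Quotient.mk P0) (x := algebraMap D B d) (show d ∈ q.comap (algebraMap D B) by rw [hq]; exact hd)
  have hsurj : Function.Surjective (algebraMap D (B ⧸ P0)) := fun x => by
    obtain ⟨m, hm⟩ := hint x
    obtain ⟨a, ha⟩ := key _ hm
    obtain ⟨u, hu⟩ := (hd.pow m).map (algebraMap D (B ⧸ P0))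
    refine ⟨a * ↑(hd.pow m).unit⁻¹, ?_⟩
    rw [map_mul, ha, ← map_pow, mul_right_comm, ← map_mul]
    simp
  exact ⟨((AlgEquiv.ofBijective (Algebra.ofId D (B ⧸ P0)) ⟨hinjq, hsurj⟩).symm.toAlgHom).comp
    (Ideal.Quotient.mkₐ D P0)⟩

/-- A map of a finitely presented algebra to a localization at a prime is defined on a basic open. -/
theorem exists_away {C : Type u} [CommRing C] (P : Ideal C) [P.IsPrime] {B : Type u} [CommRing B]
    [Algebra C B] [Algebra.FinitePresentation C B] (ψ : B →ₐ[C] Localization.AtPrime P) :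
    ∃ r, r ∉ P ∧ Nonempty (B →ₐ[C] Localization.Away r) := by
  classical
  obtain ⟨n, π, hπ, S, hS⟩ := Algebra.FinitePresentation.out (R := C) (A := B)
  obtain ⟨⟨s, hs⟩, hint⟩ := IsLocalization.exist_integer_multiples_of_finite P.primeCompl
    (fun i => ψ (π (MvPolynomial.X i)))
  choose c hc using hint
  simp only [Algebra.smul_def] at hc
  let Ψ : MvPolynomial (Fin n) C →ₐ[C] Localization.Away s := MvPolynomial.aeval fun i =>
    algebraMap C _ (c i) * IsLocalization.Away.invSelf s
  let τ : Localization.Away s →ₐ[C] Localization.AtPrime P :=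
    IsLocalization.liftAlgHom (M := Submonoid.powers s) (f := Algebra.ofId C _) (by
      rintro ⟨_, m, rfl⟩
      rw [map_pow]
      exact (IsLocalization.map_units (Localization.AtPrime P) (⟨s, hs⟩ : P.primeCompl)).pow m)
  have hτ : τ.comp Ψ = ψ.comp π := MvPolynomial.algHom_ext fun i => by
    simp only [AlgHom.comp_apply, Ψ, MvPolynomial.aeval_X, map_mul, AlgHom.commutes]
    rw [hc i, mul_comm (algebraMap C (Localization.AtPrime P) s), mul_assoc, ← τ.commutes s,
      ← map_mul, IsLocalization.Away.mul_invSelf, map_one, mul_one]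
  have ht : ∀ g ∈ S, ∃ t, t ∉ P ∧ algebraMap C (Localization.Away s) t * Ψ g = 0 := fun g hg => by
    obtain ⟨m, a, ha⟩ := IsLocalization.Away.surj s (Ψ g)
    have h0 : ψ (π g) = 0 := by
      have : π g = 0 := (hS ▸ Ideal.subset_span hg : g ∈ RingHom.ker π.toRingHom)
      rw [this, map_zero]
    have h1 : algebraMap C (Localization.AtPrime P) a = 0 := by
      rw [← τ.commutes, ← ha, map_mul, ← AlgHom.comp_apply, hτ, AlgHom.comp_apply, h0, zero_mul]
    obtain ⟨⟨t, ht⟩, hta⟩ := (IsLocalization.map_eq_zero_iff P.primeCompl _ a).1 h1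
    refine ⟨t, ht, (((IsLocalization.map_units (Localization.Away s)
      (⟨s, 1, pow_one s⟩ : Submonoid.powers s)).pow m)).mul_left_eq_zero.1 ?_⟩
    rw [mul_assoc, ← map_pow, map_pow, ha, ← map_mul, hta, map_zero]
  choose t ht1 ht2 using ht
  let T := ∏ g ∈ S.attach, t g.1 g.2
  have hT : T ∉ P := fun h => by
    obtain ⟨g, -, hg⟩ := Ideal.IsPrime.prod_mem_iff.1 h
    exact ht1 g.1 g.2 hg
  let ρ : Localization.Away s →ₐ[C] Localization.Away (s * T) :=
    IsLocalization.liftAlgHom (M := Submonoid.powers s) (f := Algebra.ofId C _) (by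
      rintro ⟨_, m, rfl⟩
      rw [map_pow]
      exact (isUnit_of_dvd_unit (map_dvd _ (dvd_mul_right s T))
        (IsLocalization.map_units (Localization.Away (s * T))
          (⟨s * T, 1, pow_one _⟩ : Submonoid.powers (s * T)))).pow m)
  refine ⟨s * T, fun h => (Ideal.IsPrime.mem_or_mem inferInstance h).elim hs hT,
    ⟨AlgHom.liftOfSurjective π hπ (ρ.comp Ψ) fun g hg => ?_⟩⟩
  have hle : RingHom.ker π.toRingHom ≤ RingHom.ker (ρ.comp Ψ).toRingHom := by
    rw [← hS, Ideal.span_le]
    intro g hg
    have hu : IsUnit (algebraMap C (Localization.Away (s * T)) (t g hg)) :=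
      isUnit_of_dvd_unit (map_dvd _ ((Finset.dvd_prod_of_mem (fun g : S => t g.1 g.2)
        (Finset.mem_attach S ⟨g, hg⟩)).trans (dvd_mul_left T s)))
        (IsLocalization.map_units (Localization.Away (s * T))
          (⟨s * T, 1, pow_one _⟩ : Submonoid.powers (s * T)))
    refine hu.mul_right_eq_zero.1 ?_
    rw [← ρ.commutes]
    change ρ _ * ρ (Ψ g) = 0
    rw [← map_mul, ht2 g hg, map_zero]
  exact hle hg

section Pi

variable {ι : Type u} {K : ι → Type u} [∀ i, Field (K i)]

/-- Products of algebraically closed fields have roots of monic polynomials, close to a given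
approximate root. -/
theorem exists_root_near [∀ i, IsAlgClosed (K i)] (f : Polynomial (Π i, K i)) (hf : f.Monic)
    (h1 : f.natDegree ≠ 0) (z : Π i, K i) : ∃ z', f.eval z' = 0 ∧ f.eval z ∣ z' - z := by
  classical
  have hev : ∀ (w : Π i, K i) (i : ι), f.eval w i = (f.map (Pi.evalRingHom K i)).eval (w i) :=
    fun w i => (Polynomial.eval_map_apply (f := Pi.evalRingHom K i) w).symm
  have hr : ∀ i, ∃ a, (f.map (Pi.evalRingHom K i)).eval a = 0 ∧
      ((f.map (Pi.evalRingHom K i)).eval (z i) = 0 → a = z i) := fun i => by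
    by_cases h : (f.map (Pi.evalRingHom K i)).eval (z i) = 0
    · exact ⟨z i, h, fun _ => rfl⟩
    · obtain ⟨a, ha⟩ := IsAlgClosed.exists_root (f.map (Pi.evalRingHom K i)) (by
        intro h0
        refine h1 ?_
        rw [← hf.natDegree_map (Pi.evalRingHom K i)]
        exact Polynomial.natDegree_eq_zero_iff_degree_le_zero.2 h0.le)
      exact ⟨a, ha, fun h' => absurd h' h⟩
  choose z' h0 hz' using hr
  refine ⟨z', funext fun i => (hev z' i).trans (h0 i),
    ⟨fun i => (z' i - z i) / f.eval z i, funext fun i => ?_⟩⟩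
  by_cases h : f.eval z i = 0
  · rw [Pi.sub_apply, Pi.mul_apply, h, zero_mul, hz' i ((hev z i).symm.trans h), sub_self]
  · rw [Pi.sub_apply, Pi.mul_apply, mul_div_cancel₀ _ h]

variable (K) [∀ i, IsAlgClosed (K i)] {C : Type u} [CommRing C] [Algebra C (Π i, K i)]
  [FaithfulSMul C (Π i, K i)] [IsIntegrallyClosedIn C (Π i, K i)] (P : Ideal C) [P.IsPrime]

include K

/-- The local rings of a ring integrally closed in a product of algebraically closed fields are
domains, integrally closed in an algebraically closed field. -/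
theorem exists_field : IsDomain (Localization.AtPrime P) ∧
    ∃ (L : Type u) (_ : Field L) (_ : IsAlgClosed L) (_ : Algebra (Localization.AtPrime P) L),
      FaithfulSMul (Localization.AtPrime P) L ∧ IsIntegrallyClosedIn (Localization.AtPrime P) L := by
  classical
  let W := Π i, K i
  have hinj : Function.Injective (algebraMap C W) := FaithfulSMul.algebraMap_injective _ _
  obtain ⟨p0, hp0, hp0P⟩ := Ideal.exists_minimalPrimes_le (bot_le : (⊥ : Ideal C) ≤ P)
  have := Ideal.minimalPrimes_isPrime hp0
  obtain ⟨Q, hQ, -, hQp0⟩ := Ideal.exists_comap_eq_of_mem_minimalPrimes (f := algebraMap C W) (I := ⊥) p0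
    (by rwa [← RingHom.ker_eq_comap_bot, (RingHom.injective_iff_ker_eq_bot _).1 hinj])
  have hQmax : Q.IsMaximal := by
    rw [Ideal.Quotient.maximal_ideal_iff_isField_quotient]
    refine ⟨⟨0, 1, zero_ne_one⟩, mul_comm, fun {a} ha => ?_⟩
    obtain ⟨w, rfl⟩ := Ideal.Quotient.mk_surjective a
    refine ⟨Ideal.Quotient.mk Q fun i => (w i)⁻¹, ?_⟩
    rw [← map_mul, ← map_one (Ideal.Quotient.mk Q), Ideal.Quotient.mk_eq_mk_iff_sub_mem]
    refine (hQ.mem_or_mem (show w * (w * (fun i => (w i)⁻¹) - 1) ∈ Q from ?_)).resolve_left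
      fun h => ha (Ideal.Quotient.eq_zero_iff_mem.2 h)
    rw [show w * (w * (fun i => (w i)⁻¹) - 1) = 0 from funext fun i => by
      change w i * (w i * (w i)⁻¹ - 1) = 0
      rcases eq_or_ne (w i) 0 with h | h
      · rw [h, zero_mul]
      · rw [mul_inv_cancel₀ h, sub_self, mul_zero]]
    exact Q.zero_mem
  let := Ideal.Quotient.field Q
  have hac : IsAlgClosed (W ⧸ Q) := IsAlgClosed.of_exists_root _ fun g hg hirr => by
    obtain ⟨f, hfg, hdeg, hfm⟩ := Polynomial.lifts_and_natDegree_eq_and_monic
      ((Polynomial.lifts_iff_coeff_lifts _).2 fun n => Ideal.Quotient.mk_surjective _) hg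
    obtain ⟨z, hz, -⟩ := exists_root_near f hfm (by rw [hdeg]; exact hirr.natDegree_pos.ne') (0 : W)
    exact ⟨Ideal.Quotient.mk Q z, by rw [← hfg, Polynomial.eval_map_apply, hz, map_zero]⟩
  let γ : C →+* W ⧸ Q := (Ideal.Quotient.mk Q).comp (algebraMap C W)
  have hker : ∀ c, γ c = 0 ↔ c ∈ p0 := fun c => by
    rw [RingHom.comp_apply, Ideal.Quotient.eq_zero_iff_mem, ← hQp0, Ideal.mem_comap]
  have hγu : ∀ s : P.primeCompl, IsUnit (γ s) := fun s =>
    isUnit_iff_ne_zero.2 fun h => s.2 (hp0P ((hker _).1 h))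
  let γP : Localization.AtPrime P →+* W ⧸ Q := IsLocalization.lift hγu
  have hγP : Function.Injective γP := by
    rw [injective_iff_map_eq_zero]
    intro x hx
    obtain ⟨c, s, rfl⟩ := IsLocalization.exists_mk'_eq P.primeCompl x
    rw [IsLocalization.lift_mk', Units.mul_left_eq_zero, hker] at hx
    rw [IsLocalization.mk'_eq_zero_iff]
    let e : W := fun i => if algebraMap C W c i = 0 then 1 else 0
    obtain ⟨u, hu⟩ := IsIntegrallyClosedIn.isIntegral_iff.1
      (show IsIntegral C e from ⟨X ^ 2 - X, by monicity!, by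
        rw [eval₂_sub, eval₂_X_pow, eval₂_X]
        funext i
        change (if algebraMap C W c i = 0 then (1 : K i) else 0) ^ 2 -
          (if algebraMap C W c i = 0 then (1 : K i) else 0) = 0
        by_cases h : algebraMap C W c i = 0
        · rw [if_pos h]; ring
        · rw [if_neg h]; ring⟩)
    refine ⟨⟨u, fun huP => ?_⟩, hinj ?_⟩
    · refine Ideal.IsPrime.ne_top inferInstance ((Ideal.eq_top_iff_one P).2 ?_)
      have : (1 - u : C) ∈ p0 := by
        rw [← hQp0, Ideal.mem_comap, map_sub, map_one, hu]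
        have hcQ : algebraMap C W c ∈ Q := by rw [← Ideal.mem_comap, hQp0]; exact hx
        convert Q.mul_mem_left (fun i => (algebraMap C W c i)⁻¹) hcQ using 1
        funext i
        change 1 - (if algebraMap C W c i = 0 then (1 : K i) else 0) =
          (algebraMap C W c i)⁻¹ * algebraMap C W c i
        by_cases h : algebraMap C W c i = 0
        · rw [if_pos h, h, mul_zero, sub_self]
        · rw [if_neg h, inv_mul_cancel₀ h, sub_zero]
      simpa using P.add_mem (hp0P this) huP
    · rw [map_mul, hu, map_zero]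
      funext i
      change (if algebraMap C W c i = 0 then (1 : K i) else 0) * algebraMap C W c i = 0
      by_cases h : algebraMap C W c i = 0
      · rw [h, mul_zero]
      · rw [if_neg h, zero_mul]
  let := γP.toAlgebra
  refine ⟨hγP.isDomain _, W ⧸ Q, inferInstance, hac, inferInstance,
    (faithfulSMul_iff_algebraMap_injective _ _).2 hγP,
    isIntegrallyClosedIn_iff.2 ⟨hγP, fun {x} hx => ?_⟩⟩
  have : IsScalarTower C (Localization.AtPrime P) (W ⧸ Q) :=
    .of_algebraMap_eq fun c => (IsLocalization.lift_eq hγu c).symm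
  obtain ⟨⟨s, hs⟩, hsx⟩ := IsIntegral.exists_multiple_integral_of_isLocalization P.primeCompl x hx
  rw [Submonoid.smul_def, Algebra.smul_def] at hsx
  obtain ⟨f, hfm, hf⟩ := hsx
  obtain ⟨z, hz⟩ := Ideal.Quotient.mk_surjective (algebraMap C (W ⧸ Q) s * x)
  have hcomp : (f.map (algebraMap C W)).eval z ∈ Q := by
    rw [← Ideal.Quotient.eq_zero_iff_mem, Polynomial.eval_map, Polynomial.hom_eval₂, hz]
    exact hf
  have : Nontrivial (Π i, K i) :=
    ⟨⟨0, 1, fun h => hQ.ne_top ((Ideal.eq_top_iff_one Q).2 (h ▸ Q.zero_mem))⟩⟩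
  obtain ⟨z', hz', hdiv⟩ := exists_root_near (f.map (algebraMap C W)) (hfm.map _) (by
    intro h0
    rw [hfm.natDegree_map] at h0
    rw [Polynomial.eq_one_of_monic_natDegree_zero hfm h0, eval₂_one] at hf
    exact one_ne_zero hf) z
  obtain ⟨c, hc⟩ := IsIntegrallyClosedIn.isIntegral_iff.1
    (show IsIntegral C z' from ⟨f, hfm, by rw [← Polynomial.eval_map]; exact hz'⟩)
  refine ⟨IsLocalization.mk' _ c ⟨s, hs⟩, ?_⟩
  change IsLocalization.lift hγu _ = x
  rw [IsLocalization.lift_mk'_spec]
  change γ c = γ s * x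
  rw [← show Ideal.Quotient.mk Q z = γ s * x from hz, RingHom.comp_apply, hc,
    Ideal.Quotient.mk_eq_mk_iff_sub_mem]
  exact Q.mem_of_dvd hdiv hcomp

/-- Quasi-finite flat finitely presented algebras over such rings have sections near every point
of their image. -/
theorem exists_section {B : Type u} [CommRing B] [Algebra C B] [Module.Flat C B]
    [Algebra.FinitePresentation C B] [Algebra.QuasiFinite C B] (q : Ideal B) [q.IsPrime]
    (hq : q.comap (algebraMap C B) = P) :
    ∃ r, r ∉ P ∧ Nonempty (B →ₐ[C] Localization.Away r) := by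
  subst hq
  obtain ⟨_, L, _, _, _, _, _⟩ := exists_field K (q.comap (algebraMap C B))
  let P := q.comap (algebraMap C B)
  let D := Localization.AtPrime P
  let f : D →+* q.ResidueField := IsLocalization.lift (M := P.primeCompl)
    (g := algebraMap C q.ResidueField) fun s => isUnit_iff_ne_zero.2 fun h => s.2 (by
      rw [IsScalarTower.algebraMap_apply C B q.ResidueField,
        Ideal.algebraMap_residueField_eq_zero] at h
      exact h)
  let fC : D →ₐ[C] q.ResidueField := ⟨f, fun c => IsLocalization.lift_eq _ c⟩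
  let g := Algebra.TensorProduct.lift fC (IsScalarTower.toAlgHom C B q.ResidueField)
    fun _ _ => mul_comm _ _
  let Q := RingHom.ker g.toRingHom
  have : Q.IsPrime := RingHom.ker_isPrime _
  obtain ⟨σ⟩ := exists_section_of_local (D := D) (L := L) (B := D ⊗[C] B) Q (by
    have hD : (Q.comap (algebraMap D (D ⊗[C] B))).comap (algebraMap C D) = P := by
      ext c
      simp only [Ideal.mem_comap, Q, RingHom.mem_ker]
      change g (algebraMap C D c ⊗ₜ 1) = 0 ↔ _
      rw [Algebra.TensorProduct.lift_tmul, AlgHom.commutes, map_one, mul_one,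
        IsScalarTower.algebraMap_apply C B q.ResidueField, Ideal.algebraMap_residueField_eq_zero]
      rfl
    refine (IsLocalization.map_under P.primeCompl D _).symm.trans ?_
    exact (congrArg (Ideal.map (algebraMap C D)) hD).trans
      (IsLocalization.AtPrime.map_eq_maximalIdeal P D))
  exact exists_away P ((σ.restrictScalars C).comp Algebra.TensorProduct.includeRight)

end Pi

end Groth.Agent.H34.AbsInt
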