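import Mathlib.AlgebraicGeometry.Normalization
import Mathlib.FieldTheory.IsAlgClosed.AlgebraicClosure
import Groth.Agent.H34.AbsInt.Local

/-!
The absolute integral closure of an arbitrary scheme: the integral closure of the structure sheaf
in the products of algebraic closures of the residue fields at the maximal points.
-/

universe u
set_option autoImplicit false

open CategoryTheory Opposite AlgebraicGeometry TopologicalSpace

noncomputable section

namespace Groth.Agent.H34.AbsInt

variable (S : Scheme.{u})

/-- The maximal points of an open. -/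
abbrev M (U : S.Opens) : Type u := {η : S // η ∈ U ∧ ∀ y : S, y ⤳ η → y = η}

/-- The algebraic closure of the residue field. -/
abbrev K (η : S) : Type u := AlgebraicClosure (S.residueField η)

/-- The product of the algebraic closures at the maximal points. -/
abbrev W (U : S.Opens) : Type u := Π η : M S U, K S η.1

instance (U : S.Opens) : Algebra Γ(S, U) (W S U) :=
  (Pi.ringHom fun η : M S U =>
    (algebraMap (S.residueField η.1) (K S η.1)).comp (S.evaluation U η.1 η.2.1).hom).toAlgebra

theorem algebraMap_apply {U : S.Opens} (x : Γ(S, U)) (η : M S U) :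
    algebraMap Γ(S, U) (W S U) x η =
      algebraMap (S.residueField η.1) (K S η.1) (S.evaluation U η.1 η.2.1 x) := rfl

/-- Restriction of the products. -/
def resW {U V : S.Opens} (h : V ≤ U) : W S U →+* W S V :=
  Pi.ringHom fun η : M S V => Pi.evalRingHom (fun η : M S U => K S η.1) ⟨η.1, h η.2.1, η.2.2⟩

theorem resW_algebraMap {U V : S.Opens} (h : V ≤ U) (x : Γ(S, U)) :
    resW S h (algebraMap Γ(S, U) (W S U) x) =
      algebraMap Γ(S, V) (W S V) (S.presheaf.map (homOfLE h).op x) := by
  funext η
  change algebraMap (S.residueField η.1) (K S η.1) (S.evaluation U η.1 (h η.2.1) x) =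
    algebraMap (S.residueField η.1) (K S η.1) (S.evaluation V η.1 η.2.1 (S.presheaf.map (homOfLE h).op x))
  congr 1
  change S.residue η.1 (S.presheaf.germ U η.1 (h η.2.1) x) = S.residue η.1 (S.presheaf.germ V η.1 η.2.1 _)
  rw [S.presheaf.germ_res_apply (homOfLE h) η.1 η.2.1 x]

/-- The restriction to a basic open is a localization. -/
theorem isLocalization_resW {U : S.Opens} (f : Γ(S, U)) :
    letI := (resW S (S.basicOpen_le f)).toAlgebra
    IsLocalization.Away (algebraMap Γ(S, U) (W S U) f) (W S (S.basicOpen f)) := by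
  classical
  letI := (resW S (S.basicOpen_le f)).toAlgebra
  refine IsLocalization.Away.mk _ ?_ (fun s => ?_) (fun a b hab => ⟨1, ?_⟩)
  · refine IsUnit.of_mul_eq_one (fun η => (algebraMap Γ(S, U) (W S U) f ⟨η.1, S.basicOpen_le f η.2.1, η.2.2⟩)⁻¹)
      (funext fun η => ?_)
    change algebraMap Γ(S, U) (W S U) f ⟨η.1, S.basicOpen_le f η.2.1, η.2.2⟩ * _⁻¹ = 1
    refine mul_inv_cancel₀ ?_
    rw [algebraMap_apply, map_ne_zero, Scheme.evaluation_ne_zero_iff_mem_basicOpen]
    exact η.2.1
  · refine ⟨0, fun η => if h : η.1 ∈ S.basicOpen f then s ⟨η.1, h, η.2.2⟩ else 0, ?_⟩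
    rw [pow_zero, mul_one]
    funext η
    change s η = if h : η.1 ∈ S.basicOpen f then s ⟨η.1, h, η.2.2⟩ else 0
    rw [dif_pos η.2.1]
  · funext η
    rw [pow_one, Pi.mul_apply, Pi.mul_apply]
    by_cases h : η.1 ∈ S.basicOpen f
    · exact congrArg (algebraMap Γ(S, U) (W S U) f η * ·) (congrFun hab ⟨η.1, h, η.2.2⟩)
    · rw [algebraMap_apply, (Scheme.evaluation_eq_zero_iff_notMem_basicOpen S η.1 η.2.1 f).2 h,
        map_zero, zero_mul, zero_mul]

/-- The presheaf of integral closures. -/
def diagram : S.Opensᵒᵖ ⥤ CommRingCat where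
  obj U := .of (integralClosure Γ(S, U.unop) (W S U.unop))
  map {U V} i := CommRingCat.ofHom ((resW S i.unop.le).restrict _ _ fun x hx => by
    obtain ⟨p, hp, h⟩ := hx
    refine ⟨p.map (S.presheaf.map (homOfLE i.unop.le).op).hom, hp.map _, ?_⟩
    rw [Polynomial.eval₂_map]
    have : (algebraMap Γ(S, V.unop) (W S V.unop)).comp (S.presheaf.map (homOfLE i.unop.le).op).hom =
        (resW S i.unop.le).comp (algebraMap Γ(S, U.unop) (W S U.unop)) :=
      RingHom.ext fun y => (resW_algebraMap S i.unop.le y).symm
    rw [this, ← Polynomial.hom_eval₂, h, map_zero])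
  map_id U := rfl
  map_comp i j := rfl

/-- The structure map of the presheaf of integral closures. -/
def diagramMap : S.presheaf ⟶ diagram S where
  app U := CommRingCat.ofHom (algebraMap Γ(S, U.unop) (integralClosure Γ(S, U.unop) (W S U.unop)))
  naturality {U V} i := by
    ext x
    exact Subtype.ext (resW_algebraMap S i.unop.le x).symm

open Scheme.AffineZariskiSite in
theorem coequifibered_diagramMap :
    ((toOpensFunctor S).op.whiskerLeft (diagramMap S)).Coequifibered := by
  refine coequifibered_iff_forall_isLocalizationAway.mpr fun U r ↦ ?_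
  let : Algebra (integralClosure Γ(S, U.1) (W S U.1))
      (integralClosure Γ(S, S.basicOpen r) (W S (S.basicOpen r))) :=
    ((diagram S).map (homOfLE (S.basicOpen_le r)).op).hom.toAlgebra
  let : Algebra (W S U.1) (W S (S.basicOpen r)) := (resW S (S.basicOpen_le r)).toAlgebra
  have : IsLocalization.Away r Γ(S, S.basicOpen r) := U.2.isLocalization_basicOpen _
  have : IsLocalization.Away (algebraMap Γ(S, U.1) (W S U.1) r) (W S (S.basicOpen r)) :=
    isLocalization_resW S r
  let : Algebra Γ(S, U.1) (W S (S.basicOpen r)) :=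
    ((algebraMap (W S U.1) (W S (S.basicOpen r))).comp (algebraMap Γ(S, U.1) (W S U.1))).toAlgebra
  have : IsScalarTower Γ(S, U.1) (W S U.1) (W S (S.basicOpen r)) := .of_algebraMap_eq' rfl
  have : IsScalarTower Γ(S, U.1) Γ(S, S.basicOpen r) (W S (S.basicOpen r)) :=
    .of_algebraMap_eq fun x => resW_algebraMap S (S.basicOpen_le r) x
  have : IsScalarTower (integralClosure Γ(S, U.1) (W S U.1))
      (integralClosure Γ(S, S.basicOpen r) (W S (S.basicOpen r))) (W S (S.basicOpen r)) :=
    .of_algebraMap_eq' rfl
  have : IsScalarTower Γ(S, U.1) (integralClosure Γ(S, U.1) (W S U.1))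
      (integralClosure Γ(S, S.basicOpen r) (W S (S.basicOpen r))) :=
    .of_algebraMap_eq fun x => Subtype.ext rfl
  change IsLocalization.Away ((algebraMap Γ(S, U.1) (integralClosure Γ(S, U.1) (W S U.1))) r)
    (integralClosure Γ(S, S.basicOpen r) (W S (S.basicOpen r)))
  exact IsLocalization.Away.integralClosure r

/-- The glueing datum of the absolute integral closure. -/
def glueData := Scheme.AffineZariskiSite.relativeGluingData (coequifibered_diagramMap S)

instance : ((glueData S).functor ⋙ Scheme.forget).IsLocallyDirected :=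
  Scheme.Cover.RelativeGluingData.instIsLocallyDirectedI₀CompFunctorForgetOfIsThin ..

/-- The absolute integral closure. -/
def T : Scheme.{u} := (glueData S).glued

/-- The projection. -/
def π : T S ⟶ S := (glueData S).toBase

/-- The affine chart of the absolute integral closure over an affine open. -/
def chart (U : S.affineOpens) :
    Spec ((diagram S).obj (op U.1)) ⟶ T S := (glueData S).cover.f ⟨U.1, U.2⟩

instance (U : S.affineOpens) : IsOpenImmersion (chart S U) :=
  inferInstanceAs (IsOpenImmersion ((glueData S).cover.f _))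

theorem chart_π (U : S.affineOpens) :
    chart S U ≫ π S = Spec.map ((diagramMap S).app (op U.1)) ≫ U.2.fromSpec :=
  Limits.colimit.ι_desc _ _

theorem preimage_π (U : S.affineOpens) : π S ⁻¹ᵁ U.1 = (chart S U).opensRange := by
  simpa using! (glueData S).toBase_preimage_eq_opensRange_ι ⟨U.1, U.2⟩

instance isIntegralHom_π : IsIntegralHom (π S) := by
  rw [IsZariskiLocalAtTarget.iff_of_iSup_eq_top (P := @IsIntegralHom) _
    (iSup_affineOpens_eq_top _)]
  intro U
  let e := IsOpenImmersion.isoOfRangeEq ((π S) ⁻¹ᵁ U).ι (chart S U)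
      (by simpa using congr($(preimage_π S U).1))
  rw [← MorphismProperty.cancel_left_of_respectsIso @IsIntegralHom e.inv,
    ← MorphismProperty.cancel_right_of_respectsIso @IsIntegralHom _ U.2.isoSpec.hom]
  have : ((diagramMap S).app (op U.1)).hom.IsIntegral :=
    (algebraMap_isIntegral_iff (R := Γ(S, U.1)) (A := integralClosure Γ(S, U.1) (W S U.1))).mpr
      inferInstance
  convert! IsIntegralHom.SpecMap_iff.mpr this
  rw [← cancel_mono U.2.fromSpec]
  simp [IsAffineOpen.isoSpec_hom, e, chart_π]

/-- Every point has a maximal generization. -/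
theorem exists_maximal (x : S) : ∃ η : S, η ⤳ x ∧ ∀ y : S, y ⤳ η → y = η := by
  have hZ := isIrreducible_irreducibleComponent (x := x)
  have hg : IsGenericPoint hZ.genericPoint (irreducibleComponent x) :=
    hZ.isGenericPoint_genericPoint isClosed_irreducibleComponent
  refine ⟨hZ.genericPoint, hg.specializes mem_irreducibleComponent, fun y hy => ?_⟩
  have hle : irreducibleComponent x ⊆ closure {y} := by
    rw [← hg]
    exact closure_minimal (Set.singleton_subset_iff.2 (specializes_iff_mem_closure.1 hy)) isClosed_closure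
  exact IsGenericPoint.eq
    (show IsGenericPoint y (irreducibleComponent x) from
      eq_irreducibleComponent isIrreducible_singleton.closure.2 hle) hg

instance surjective_π : Surjective (π S) := by
  refine ⟨fun x => ?_⟩
  obtain ⟨U, hU, hxU, -⟩ :=
    exists_isAffineOpen_mem_and_subset (X := S) (U := ⊤) (x := x) trivial
  let A := Γ(S, U)
  let C := integralClosure A (W S U)
  let p := hU.primeIdealOf ⟨x, hxU⟩
  have hker : RingHom.ker (algebraMap A C) ≤ p.asIdeal := by
    intro a ha
    refine nilradical_le_prime p.asIdeal (mem_nilradical.2 ?_)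
    rw [Scheme.isNilpotent_iff_basicOpen_eq_bot_of_isCompact hU.isCompact, eq_bot_iff]
    intro y hy
    obtain ⟨η, hηy, hη⟩ := exists_maximal S y
    have hηb : η ∈ S.basicOpen a := hηy.mem_open (S.basicOpen a).2 hy
    have h0 : algebraMap A (W S U) a ⟨η, S.basicOpen_le a hηb, hη⟩ = 0 :=
      congrFun (congrArg Subtype.val (show algebraMap A C a = 0 from ha)) _
    rw [algebraMap_apply, map_eq_zero] at h0
    exact ((Scheme.evaluation_ne_zero_iff_mem_basicOpen S η _ a).2 hηb h0).elim
  obtain ⟨Q, -, hQ, hQp⟩ := Ideal.exists_ideal_over_prime_of_isIntegral p.asIdeal (⊥ : Ideal C) (by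
    rwa [← RingHom.ker_eq_comap_bot])
  refine ⟨chart S ⟨U, hU⟩ (show PrimeSpectrum C from ⟨Q, hQ⟩), ?_⟩
  rw [← Scheme.Hom.comp_apply, chart_π, Scheme.Hom.comp_apply]
  exact (congrArg hU.fromSpec (PrimeSpectrum.ext hQp :
    (Spec.map ((diagramMap S).app (op U))) (show PrimeSpectrum C from ⟨Q, hQ⟩) = p)).trans
      (hU.fromSpec_primeIdealOf ⟨x, hxU⟩)

theorem isIntegrallyClosedIn (U : S.Opens) :
    IsIntegrallyClosedIn (integralClosure Γ(S, U) (W S U)) (W S U) :=
  isIntegrallyClosedIn_iff.2 ⟨Subtype.val_injective, fun {x} hx =>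
    ⟨⟨x, isIntegral_trans x hx⟩, rfl⟩⟩

end Groth.Agent.H34.AbsInt
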